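import Groth.Agent.PureNorm24.Torsion
import Groth.Agent.NormSeq24.GenusCount
import Groth.Agent.BlowUpCoh.LocFree
import Groth.Agent.KRR28.Sect
import Groth.Agent.FlatMorAdm.LocFreeApps
import Groth.Agent.EulerLib.StabBasic
import Groth.Agent.FSchLib.LevelsNear
import Groth.Agent.Misc15.GenericPoints
import Groth.Agent.AlgSpLib.OnePointFlat
import Groth.Agent.EGA43.InjFibre.Scheme
import Groth.Agent.CAlgH3.LocFreeFactor
import Groth.Agent.Coherent.SupportPullback

/-!
# A pure sheaf on a nodal curve inside the push-forward of a vector bundle on the normalization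
-/

set_option autoImplicit false
set_option backward.isDefEq.respectTransparency.types false
set_option maxHeartbeats 1000000

universe u

open CategoryTheory CategoryTheory.Limits AlgebraicGeometry TopologicalSpace Opposite
open Groth.Agent Groth.Agent.Coherent

noncomputable section

namespace Groth.Agent.PureNorm24

variable {X : Scheme.{u}}

local notation "St" => DerSch.stalkFunctor X

/-- An affine morphism whose structure map has bijective stalks over an affine open is an isomorphism there. -/
theorem isIso_restrict_of_unit {Y : Scheme.{u}} (f : Y ⟶ X) [IsAffineHom f] {A : X.Opens} (hA : IsAffineOpen A)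
    (hb : ∀ x ∈ A, Function.Bijective ((St x).map (ClSub.unitToPush f))) : IsIso (f ∣_ A) := by
  let toS : X.Modules → TopCat.Sheaf Ab X := fun M => ⟨M.presheaf, M.isSheaf⟩
  let u : toS (Coh.structureModule X) ⟶ toS ((Coh.push f).obj (Coh.structureModule Y)) :=
    ⟨((Scheme.Modules.toPresheaf X).map (ClSub.unitToPush f))⟩
  have happ : Function.Bijective (f.app A) :=
    TopCat.Presheaf.app_bijective_of_stalkFunctor_map_bijective u A fun x hx => hb x hx
  haveI : IsAffine (A : Scheme.{u}) := hA
  haveI : IsAffine (f ⁻¹ᵁ A : Scheme.{u}) := hA.preimage f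
  refine (HasAffineProperty.iff_of_isAffine (P := MorphismProperty.isomorphisms Scheme.{u}) (f := f ∣_ A)).2
    ⟨inferInstance, ?_⟩
  haveI : IsIso (f.app (A.ι ''ᵁ ⊤)) := by
    rw [Scheme.Opens.ι_image_top]
    exact (ConcreteCategory.isIso_iff_bijective _).2 happ
  rw [Scheme.Hom.appTop, morphismRestrict_app]
  exact IsIso.comp_isIso' ‹_› (Functor.map_isIso Y.presheaf _)

/-- The isomorphism locus. -/
def isoLocus {Y : Scheme.{u}} (f : Y ⟶ X) : X.Opens := ⨆ A : {A : X.Opens // IsIso (f ∣_ A)}, A.1

theorem isIso_isoLocus {Y : Scheme.{u}} (f : Y ⟶ X) : IsIso (f ∣_ isoLocus f) :=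
  FSchLib.Near.restrict_iSup (Q := MorphismProperty.isomorphisms Scheme.{u}) _ fun A => A.2

theorem le_isoLocus {Y : Scheme.{u}} (f : Y ⟶ X) {A : X.Opens} (h : IsIso (f ∣_ A)) : A ≤ isoLocus f :=
  le_iSup (fun A : {A : X.Opens // IsIso (f ∣_ A)} => A.1) ⟨A, h⟩

/-- A coherent subsheaf of a pure one-dimensional sheaf with finite support vanishes. -/
theorem isZero_of_finite_support {F K : X.Modules} (hF : ShStab.IsPure X F 1) (i : K ⟶ F) [Mono i] (hK : Coh.IsCoh K)
    {Z : Set X} (hZ : Z.Finite) (hc : ∀ z ∈ Z, IsClosed ({z} : Set X)) (hs : CohB1.support K ⊆ Z) : IsZero K := by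
  by_contra h
  have h1 := hF K i inferInstance hK h
  haveI : Finite (CohB1.support K) := (hZ.subset hs).to_subtype
  haveI : T1Space (CohB1.support K) := ⟨fun z => by
    rw [show ({z} : Set (CohB1.support K)) = Subtype.val ⁻¹' {z.1} from
      Set.ext fun w => (Subtype.ext_iff).trans Iff.rfl]
    exact (hc z.1 (hs z.2)).preimage continuous_subtype_val⟩
  haveI : DiscreteTopology (CohB1.support K) := inferInstance
  have h2 : topologicalKrullDim (CohB1.support K) ≤ 0 := topologicalKrullDim_zero_of_discreteTopology _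
  rw [h1] at h2
  exact absurd h2 (by simp)

/-- A morphism which is injective on stalks away from finitely many closed points is mono on a pure sheaf. -/
theorem mono_of_pure [IsLocallyNoetherian X] {F G : X.Modules} (hF : Coh.IsCoh F) (hG : Coh.IsQCoh G)
    (hp : ShStab.IsPure X F 1) (φ : F ⟶ G)
    {Z : Set X} (hZ : Z.Finite) (hc : ∀ z ∈ Z, IsClosed ({z} : Set X))
    (hb : ∀ x, x ∉ Z → Function.Injective ((St x).map φ)) : Mono φ := by
  refine Preadditive.mono_of_isZero_kernel φ (isZero_of_finite_support hp (kernel.ι φ) (isCoh_kernel φ hF hG) hZ hc ?_)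
  intro x hx
  by_contra hxZ
  refine hx (subsingleton_of_forall_eq 0 fun a => ?_)
  apply (ModuleCat.mono_iff_injective ((St x).map (kernel.ι φ))).1 inferInstance
  refine Eq.trans ?_ (map_zero ((St x).map (kernel.ι φ)).hom).symm
  apply hb x hxZ
  refine ((stalk_comp_apply _ _ _).trans ?_).trans (map_zero ((St x).map φ).hom).symm
  rw [kernel.condition]
  exact stalk_zero_apply _

theorem exists_push_locFree (k : Type u) [Field k] [IsAlgClosed k]
    (C : Scheme.{u}) [C.Over (Spec (CommRingCat.of k))] [IsProper (C ↘ (Spec (CommRingCat.of k)))]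
    (hdim : ∀ Z ∈ irreducibleComponents (C : Type u), topologicalKrullDim Z = 1) (hC : Curv2.AtWorstNodal k C)
    (C' : Scheme.{u}) (π : C' ⟶ C) [IsFinite π] (hC' : Pi1.IsNormalScheme C')
    (U : C.Opens) (hU : Dense (U : Set C)) (hU' : Dense ((π ⁻¹ᵁ U : C'.Opens) : Set C')) (hπU : IsIso (π ∣_ U))
    (F : C.Modules) (hF : Coh.IsCoh F) (hpure : ShStab.IsPure C F 1) :
    ∃ (F' : C'.Modules) (f : F ⟶ (Scheme.Modules.pushforward π).obj F'),
      Coh.IsCoh F' ∧ FlatMod.IsFinLocFree F' ∧ Mono f ∧
        CohB1.support (cokernel f) ⊆ {x : C | Curv2.IsNode k C x} := by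
  classical
  haveI : ∀ z : C, _root_.IsReduced (C.presheaf.stalk z) := NodeLib7.isReduced_stalk_of_atWorstNodal k C hC
  haveI : IsReduced C := isReduced_of_isReduced_stalk C
  haveI : IsReduced C' := NormSeq24.isReduced_of_isNormalScheme hC'
  haveI := EulerLib.isNoetherian_of_proper (X := C) k
  letI : C'.Over (Spec (CommRingCat.of k)) := ⟨π ≫ (C ↘ Spec (CommRingCat.of k))⟩
  haveI : IsProper (C' ↘ Spec (CommRingCat.of k)) :=
    inferInstanceAs (IsProper (π ≫ (C ↘ Spec (CommRingCat.of k))))
  haveI := EulerLib.isNoetherian_of_proper (X := C') k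
  have hd1 := NormSeq24.dim_le_one hdim
  have hd1' := Hyper24.dim_le_of_isIso_restrict k hd1 π hU' hπU
  haveI := hπU
  let free : C.Opens := ⟨_, RefHullLib.isOpen_free_stalk hF⟩
  have hfree : Dense (free : Set C) := by
    refine Misc15.dense_of_generic_mem NoetherianSpace.finite_irreducibleComponents fun z hz => ?_
    have hf := AlgSpLib.isField_stalk_of_maximal z ((Misc15.closure_mem_components_iff z).1 hz)
    letI := hf.toField
    exact Module.Free.of_divisionRing _ _
  let W₀ : C.Opens := free ⊓ U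
  have hW₀ : Dense (W₀ : Set C) := Dense.inter_of_isOpen_right hfree hU U.2
  obtain ⟨hZ₀, hc₀⟩ := Hyper24.finite_compl_dense k hd1 hW₀
  -- the smooth points
  have key : ∀ x : C, ¬ Curv2.IsNode k C x → x ∈ free ⊓ isoLocus π := by
    intro x hx
    by_cases hx0 : x ∈ W₀
    · exact ⟨hx0.1, le_isoLocus π hπU hx0.2⟩
    have hxc := hc₀ x hx0
    rcases hC x hxc with ⟨S, hxS, hsm⟩ | h
    swap
    · exact absurd h hx
    have hdom : ∀ y ∈ S, IsRegularLocalRing (C.presheaf.stalk y) := fun y hy => by
      haveI := VarietyLib.isRegularLocalRing_stalk_of_smooth k _ (S.ι ≫ (C ↘ Spec (CommRingCat.of k))) ⟨y, hy⟩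
      exact IsRegularLocalRing.of_ringEquiv (S.stalkIso ⟨y, hy⟩).commRingCatIsoToRingEquiv
    haveI := hdom x hxS
    haveI := CAlgH3.isDomain_of_isRegularLocalRing (C.presheaf.stalk x)
    haveI := CAlgH3.isIntegrallyClosed_of_regular (C.presheaf.stalk x)
    refine ⟨?_, ?_⟩
    · -- torsion-free by purity, hence free
      let η := (Scheme.Modules.restrictAdjunction W₀.ι).unit.app F
      have hlf : FlatMod.IsFinLocFree (F.restrict W₀.ι) :=
        (RefHullLib.isFinLocFree_restrict_iff hF W₀).2 fun y hy => hy.1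
      haveI := hF.1
      have hq : Coh.IsQCoh ((Coh.push W₀.ι).obj (F.restrict W₀.ι)) := isQCoh_push W₀.ι _
      haveI : Mono η := mono_of_pure hF hq hpure η hZ₀ hc₀ fun y hy =>
        (bijective_stalk_restrictUnit F (not_not.1 hy)).1
      have hinj : Function.Injective ((DerSch.stalkFunctor C x).map η) :=
        (ModuleCat.mono_iff_injective _).1 inferInstance
      haveI : Module.Finite (C.presheaf.stalk x) (F.presheaf.stalk x) := AssSch12.finite_stalk hF x
      haveI : Module.IsTorsionFree (C.presheaf.stalk x) (F.presheaf.stalk x) :=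
        Module.isTorsionFree_iff_smul_eq_zero.2 fun r a h => by
          by_contra hne
          push_neg at hne
          refine hne.2 (hinj (a₂ := 0) ?_)
          rw [map_zero]
          refine eq_zero_of_smul_push hlf r hne.1 _ ?_
          exact ((map_smul ((DerSch.stalkFunctor C x).map η).hom r a).symm.trans
            ((congrArg _ h).trans (map_zero _)))
      have hK : Ring.KrullDimLE 1 (C.presheaf.stalk x) := ⟨(EGA4Dim6.stalk_dim_le_dim x).trans hd1⟩
      haveI : Ring.DimensionLEOne (C.presheaf.stalk x) :=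
        Ring.krullDimLE_one_iff_of_noZeroDivisors.1 hK |> fun h => ⟨fun {p} hp hp' => h p hp hp'⟩
      haveI : IsNoetherianRing (C.presheaf.stalk x) := inferInstance
      haveI : IsDedekindRing (C.presheaf.stalk x) := { }
      exact Module.free_of_finite_type_torsion_free'
    · obtain ⟨A, hA, hxA, hAS⟩ := exists_isAffineOpen_mem_and_subset (x := x) (U := S) hxS
      refine le_isoLocus π (isIso_restrict_of_unit π hA fun y hy => ?_) hxA
      have hyS : y ∈ S := hAS hy
      haveI : Mono (ClSub.unitToPush π) :=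
        mono_of_sections_injective _ fun V => NormSeq24.app_injective π hU V
      refine ⟨(ModuleCat.mono_iff_injective _).1 inferInstance, ?_⟩
      have h0 : Subsingleton ((cokernel (ClSub.unitToPush π)).presheaf.stalk y) := by
        refine (Module.length_eq_zero_iff (R := C.presheaf.stalk y)).1 ?_
        rw [NormSeq24.length_stalk_cokernel π hU hU' hC' y, NormSeq24.deltaInv_of_smooth k C y hyS hsm]
      intro b
      obtain ⟨a, ha⟩ := (ShortComplex.moduleCat_exact_iff _).1
        ((ShortComplex.exact_of_g_is_cokernel (ShortComplex.mk _ _ (cokernel.condition (ClSub.unitToPush π)))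
          (cokernelIsCokernel _)).map (DerSch.stalkFunctor C y)) b (h0.elim _ _)
      exact ⟨a, ha⟩
  let W : C.Opens := free ⊓ isoLocus π
  let W' : C'.Opens := π ⁻¹ᵁ W
  haveI : IsIso (π ∣_ W) :=
    FSchLib.Near.of_le (Q := MorphismProperty.isomorphisms Scheme.{u}) inf_le_right (isIso_isoLocus π)
  let FW := F.restrict W.ι
  have hlfW : FlatMod.IsFinLocFree FW := (RefHullLib.isFinLocFree_restrict_iff hF W).2 fun y hy => hy.1
  let N' := (Scheme.Modules.pullback (π ∣_ W)).obj FW
  have hN' : FlatMod.IsFinLocFree N' := FlatMorAdm.isFinLocFree_pullback _ hlfW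
  haveI := KRR28.isIso_unitMap_of_isIso (π ∣_ W)
  haveI := BlowUpCoh.isIso_unit_of_locFree (π ∣_ W) hlfW
  let e : (Coh.push W.ι).obj FW ≅ (Scheme.Modules.pushforward π).obj ((Coh.push W'.ι).obj N') :=
    (Coh.push W.ι).mapIso (asIso ((Scheme.Modules.pullbackPushforwardAdjunction (π ∣_ W)).unit.app FW)) ≪≫
      (Scheme.Modules.pushforwardComp (π ∣_ W) W.ι ≪≫
        Scheme.Modules.pushforwardCongr (morphismRestrict_ι π W) ≪≫
        (Scheme.Modules.pushforwardComp W'.ι π).symm).app N'
  let η := (Scheme.Modules.restrictAdjunction W.ι).unit.app F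
  let g : F ⟶ (Scheme.Modules.pushforward π).obj ((Coh.push W'.ι).obj N') := η ≫ e.hom
  have hg : ∀ x ∈ W, Function.Bijective ((DerSch.stalkFunctor C x).map g) := fun x hx => by
    rw [Functor.map_comp]
    exact (ConcreteCategory.bijective_of_isIso ((DerSch.stalkFunctor C x).map e.hom)).comp
      (bijective_stalk_restrictUnit F hx)
  let adj := Scheme.Modules.pullbackPushforwardAdjunction π
  let φ := (adj.homEquiv F ((Coh.push W'.ι).obj N')).symm g
  haveI := hF.1
  haveI : Coh.IsQCoh ((Scheme.Modules.pullback π).obj F) := EGA43.InjFibre.isQCoh_pullback π F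
  haveI : Coh.IsQCoh N' := CAlgH3.LocFreeFactor.isQCoh_of_finLocFree hN'
  haveI : Coh.IsQCoh ((Coh.push W'.ι).obj N') := isQCoh_push W'.ι _
  let F' := Abelian.image φ
  have hq' : Coh.IsQCoh F' := isQCoh_image φ
  have hF' : Coh.IsCoh F' :=
    AssSch12.isCoh_of_epi _ (Abelian.factorThruImage φ) hq' (locallyFinGen_of_isFT _ (isFT_pullback_qcoh π hF.1 hF.2))
  let f : F ⟶ (Scheme.Modules.pushforward π).obj F' := adj.homEquiv F F' (Abelian.factorThruImage φ)
  haveI : (Scheme.Modules.pushforward π).IsRightAdjoint := adj.isRightAdjoint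
  have hfg : f ≫ (Scheme.Modules.pushforward π).map (Abelian.image.ι φ) = g := by
    rw [← Adjunction.homEquiv_naturality_right, Abelian.image.fac]
    exact (adj.homEquiv _ _).apply_symm_apply g
  haveI := hq'
  have hfb : ∀ x ∈ W, Function.Bijective ((DerSch.stalkFunctor C x).map f) := fun x hx => by
    have hinj : Function.Injective ((DerSch.stalkFunctor C x).map
        ((Scheme.Modules.pushforward π).map (Abelian.image.ι φ))) := (ModuleCat.mono_iff_injective _).1 inferInstance
    have hb := hg x hx
    rw [← hfg, Functor.map_comp] at hb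
    exact ⟨Function.Injective.of_comp hb.1, fun b => by
      obtain ⟨a, ha⟩ := hb.2 (((DerSch.stalkFunctor C x).map
        ((Scheme.Modules.pushforward π).map (Abelian.image.ι φ))) b)
      exact ⟨a, hinj ha⟩⟩
  have hnode : (W : Set C)ᶜ ⊆ {x : C | Curv2.IsNode k C x} := fun x hx => by
    by_contra h
    exact hx (key x h)
  have hZfin : ((W : Set C)ᶜ).Finite ∧ ∀ z ∈ (W : Set C)ᶜ, IsClosed ({z} : Set C) := by
    refine ⟨hZ₀.subset (Set.compl_subset_compl.2 fun x hx => ⟨hx.1, le_isoLocus π hπU hx.2⟩), fun z hz => ?_⟩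
    exact hc₀ z fun hz0 => hz ⟨hz0.1, le_isoLocus π hπU hz0.2⟩
  refine ⟨F', f, hF', (RefHullLib.isFinLocFree_iff_free_stalks hF').2 fun x => ?_,
    mono_of_pure hF (isQCoh_push π F') hpure f hZfin.1 hZfin.2 fun x hx => (hfb x (not_not.1 hx)).1,
    (SubAvoid14.support_cokernel_subset f fun x hx => (hfb x (not_not.1 hx)).2).trans hnode⟩
  haveI := (hC' x).1
  haveI := (hC' x).2
  have hinj : Function.Injective ((DerSch.stalkFunctor C' x).map (Abelian.image.ι φ)) :=
    (ModuleCat.mono_iff_injective _).1 inferInstance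
  haveI : Module.Finite (C'.presheaf.stalk x) (F'.presheaf.stalk x) := AssSch12.finite_stalk hF' x
  haveI : Module.IsTorsionFree (C'.presheaf.stalk x) (F'.presheaf.stalk x) :=
    Module.isTorsionFree_iff_smul_eq_zero.2 fun r a h => by
      by_contra hne
      push_neg at hne
      refine hne.2 (hinj (a₂ := 0) ?_)
      rw [map_zero]
      refine eq_zero_of_smul_push hN' r hne.1 _ ?_
      exact ((map_smul ((DerSch.stalkFunctor C' x).map (Abelian.image.ι φ)).hom r a).symm.trans
        ((congrArg _ h).trans (map_zero _)))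
  have hK : Ring.KrullDimLE 1 (C'.presheaf.stalk x) := ⟨(EGA4Dim6.stalk_dim_le_dim x).trans hd1'⟩
  haveI : Ring.DimensionLEOne (C'.presheaf.stalk x) :=
    Ring.krullDimLE_one_iff_of_noZeroDivisors.1 hK |> fun h => ⟨fun {p} hp hp' => h p hp hp'⟩
  haveI : IsNoetherianRing (C'.presheaf.stalk x) := inferInstance
  haveI : IsDedekindRing (C'.presheaf.stalk x) := { }
  exact Module.free_of_finite_type_torsion_free'

end Groth.Agent.PureNorm24
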