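import Groth.Agent.UfdExt24.Extend
import Groth.Agent.NormSeq24.Root
import Groth.Agent.Coherent.TensorFinLoc
import Groth.Agent.Coherent.DevissageApps
import Groth.Agent.RefHullLib.FreeLocus

/-!
# The direct image of a locally free module from an open has torsion-free stalks at integral points
-/

set_option autoImplicit false
set_option backward.isDefEq.respectTransparency.types false

universe u

open CategoryTheory CategoryTheory.Limits AlgebraicGeometry TopologicalSpace Opposite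
open Groth.Agent Groth.Agent.Coherent Groth.Agent.PicLib

noncomputable section

namespace Groth.Agent.PureNorm24

variable {Z : Scheme.{u}} [IsLocallyNoetherian Z] [IsReduced Z]

/-- A stalk element of the direct image of a locally free module killed by a nonzero element is zero. -/
theorem eq_zero_of_smul_push {W : Z.Opens} {N : (W : Scheme.{u}).Modules} (hN : FlatMod.IsFinLocFree N) {z : Z}
    [IsDomain (Z.presheaf.stalk z)] (r : Z.presheaf.stalk z) (hr : r ≠ 0)
    (a : ((Coh.push W.ι).obj N).presheaf.stalk z) (h : r • a = 0) : a = 0 := by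
  let P := (Coh.push W.ι).obj N
  obtain ⟨U, hzU, t, rfl⟩ := P.presheaf.exists_germ_eq a
  obtain ⟨U', hzU', r', rfl⟩ := Z.presheaf.exists_germ_eq r
  obtain ⟨V, hzV, -, hVle, hdom⟩ := UfdExt24.exists_domain_nhd (V := U ⊓ U') ⟨hzU, hzU'⟩
  let t₁ : Γ(P, V) := P.presheaf.map (homOfLE (hVle.trans inf_le_left)).op t
  let r₁ : Γ(Z, V) := Z.presheaf.map (homOfLE (hVle.trans inf_le_right)).op r'
  have ht : P.presheaf.germ U z hzU t = P.presheaf.germ V z hzV t₁ :=
    (TopCat.Presheaf.germ_res_apply _ _ _ _ _).symm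
  have hr₁ : Z.presheaf.germ V z hzV r₁ = Z.presheaf.germ U' z hzU' r' :=
    TopCat.Presheaf.germ_res_apply _ _ _ _ _
  rw [← hr₁] at hr
  rw [ht, ← hr₁, ← QCohLoc.germ_smul' P hzV r₁ t₁,
    ← map_zero (P.presheaf.germ V z hzV).hom] at h
  obtain ⟨V₁, hzV₁, i₁, i₂, e⟩ := TopCat.Presheaf.germ_eq _ z hzV hzV _ _ h
  rw [map_zero] at e
  obtain ⟨V₂, hzV₂, hV₂, hV₂le, hdom₂⟩ := UfdExt24.exists_domain_nhd (V := V₁) hzV₁
  have hle : V₂ ≤ V := hV₂le.trans i₁.le
  suffices hz : P.presheaf.map (homOfLE hle).op t₁ = 0 by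
    rw [ht, ← TopCat.Presheaf.germ_res_apply P.presheaf (homOfLE hle) z hzV₂ t₁, hz, map_zero]
  let r₂ : Γ(Z, V₂) := Z.presheaf.map (homOfLE hle).op r₁
  have hr₂ : r₂ ≠ 0 := fun h0 => hr (by
    rw [← TopCat.Presheaf.germ_res_apply Z.presheaf (homOfLE hle) z hzV₂ r₁]
    show Z.presheaf.germ V₂ z hzV₂ r₂ = 0
    rw [h0, map_zero])
  have hirr : IsPreirreducible (V₂ : Set Z) := by
    haveI := hdom₂
    rw [← hV₂.range_fromSpec, ← Set.image_univ]
    exact (IrreducibleSpace.isIrreducible_univ _).2.image _ hV₂.fromSpec.continuous.continuousOn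
  let D : Z.Opens := Z.basicOpen r₂
  have hDne : (D : Set Z).Nonempty := Set.nonempty_iff_ne_empty.2 fun h0 =>
    hr₂ ((basicOpen_eq_bot_iff r₂).1 (SetLike.coe_injective h0))
  have hDle : D ≤ V₂ := Z.basicOpen_le r₂
  let s : Γ(N, W.ι ⁻¹ᵁ V₂) := P.presheaf.map (homOfLE hle).op t₁
  have hs : r₂ • (show Γ(P, V₂) from s) = 0 := by
    show r₂ • (P.presheaf.map (homOfLE hle).op t₁) = 0
    rw [← Scheme.Modules.map_smul]
    have e' := congrArg (P.presheaf.map (homOfLE hV₂le).op) e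
    rw [map_zero, ← ConcreteCategory.comp_apply, ← Functor.map_comp] at e'
    exact e'
  have hsD : N.presheaf.map (homOfLE (W.ι.preimage_mono hDle)).op s = 0 := by
    have hu : IsUnit (Z.presheaf.map (homOfLE hDle).op r₂) := Z.toRingedSpace.isUnit_res_basicOpen r₂
    have h' := congrArg (P.presheaf.map (homOfLE hDle).op) hs
    rw [Scheme.Modules.map_smul, map_zero] at h'
    exact (hu.smul_eq_zero (x := (show Γ(P, D) from P.presheaf.map (homOfLE hDle).op s))).1 h'
  show s = 0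
  refine AmpleLib.sec_ext N s 0 fun y hy => ?_
  obtain ⟨B, n, b, hyB, hBV, hb⟩ := exists_basis_nhd hN y (W.ι ⁻¹ᵁ V₂) hy
  refine ⟨B, hBV, hyB, ?_⟩
  rw [show resM N hBV (0 : Γ(N, W.ι ⁻¹ᵁ V₂)) = 0 from map_zero _]
  let x : Γ(N, B) := resM N hBV s
  suffices hc : hb.coef le_rfl x = 0 by
    rw [show resM N hBV s = x from rfl, ← hb.coef_spec le_rfl x, hc]
    simp
  funext i
  let E : (W : Scheme.{u}).Opens := B ⊓ W.ι ⁻¹ᵁ D
  refine NormSeq24.eq_zero_of_res E inf_le_left (fun O hO hOE => ?_) _ ?_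
  · by_contra hne
    obtain ⟨o, ho⟩ : (O : Set (W : Scheme.{u})).Nonempty :=
      Set.nonempty_iff_ne_empty.2 fun h0 => hne (SetLike.coe_injective h0)
    obtain ⟨q, -, hqO, hqD⟩ := hirr (W.ι ''ᵁ O : Z.Opens) D (W.ι ''ᵁ O).2 D.2
      ⟨W.ι o, hBV (hO ho), o, ho, rfl⟩ (hDne.imp fun q hq => ⟨hDle hq, hq⟩)
    obtain ⟨q', hq', rfl⟩ := hqO
    have : q' ∈ O ⊓ E := ⟨hq', hO hq', hqD⟩
    rw [hOE] at this
    exact this
  · have hxE : resM N (inf_le_left : E ≤ B) x = 0 := by
      show resM N inf_le_left (resM N hBV s) = 0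
      rw [resM_resM_congr N hBV inf_le_left (W.ι.preimage_mono hDle) (inf_le_right : E ≤ W.ι ⁻¹ᵁ D),
        show resM N (W.ι.preimage_mono hDle) s = 0 from hsD]
      exact map_zero _
    have h2 := hb.coef_res le_rfl (inf_le_left : E ≤ B) x
    rw [hxE] at h2
    have h0 : hb.coef (inf_le_left : E ≤ B) 0 = 0 := hb.coef_eq _ (by simp)
    rw [h0] at h2
    exact (congrFun h2 i).symm

end Groth.Agent.PureNorm24
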